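import Cfsg.Agent.Lib.QBaer.Perm
import Cfsg.Agent.S4364

/-!
Elements of `q`-power order with classes of prime-power size.
-/

namespace Cfsg.Agent.Lib.QBaer

open Subgroup

variable {G : Type*} [Group G] [Finite G]

/-- The class size. -/
noncomputable abbrev cidx (x : G) : ℕ := (Subgroup.centralizer ({x} : Set G)).index

theorem mem_cent {x g : G} : g ∈ Subgroup.centralizer ({x} : Set G) ↔ g * x = x * g :=
  Subgroup.mem_centralizer_singleton_iff

theorem relIndex_eq_of_coprime {A B : Subgroup G} (h : Nat.Coprime A.index B.index) :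
    A.relIndex B = A.index := by
  have h1 : A.index ∣ A.relIndex B * B.index := by
    rw [← Subgroup.inf_relIndex_right, Subgroup.relIndex_mul_index (inf_le_right : A ⊓ B ≤ B)]
    exact Subgroup.index_dvd_of_le inf_le_left
  have h2 : A.index ≤ A.relIndex B :=
    Nat.le_of_dvd (Nat.pos_of_ne_zero Subgroup.index_ne_zero_of_finite) (h.dvd_of_dvd_mul_right h1)
  refine le_antisymm ?_ h2
  rw [← Subgroup.relIndex_top_right A]
  exact Subgroup.relIndex_le_of_le_right le_top (by rw [Subgroup.relIndex_top_right]; exact Subgroup.index_ne_zero_of_finite)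

theorem exists_mul_eq {A B : Subgroup G} (h : Nat.Coprime A.index B.index) (g : G) :
    ∃ b ∈ B, ∃ a ∈ A, g = b * a := by
  have hrel := relIndex_eq_of_coprime h
  let f : ↥B ⧸ A.subgroupOf B → G ⧸ A := Quotient.map' (fun b : B => (b : G)) fun a b hab => by
    rw [QuotientGroup.leftRel_apply] at hab ⊢
    exact hab
  have hinj : Function.Injective f := by
    intro a b
    induction a using QuotientGroup.induction_on with
    | H a =>
      induction b using QuotientGroup.induction_on with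
      | H b =>
        intro hab
        exact QuotientGroup.eq.2 ((QuotientGroup.eq (s := A) (a := (a : G)) (b := (b : G))).1 hab)
  obtain ⟨e, he⟩ := ((Nat.bijective_iff_injective_and_card f).2 ⟨hinj, hrel⟩).2 (g : G ⧸ A)
  obtain ⟨b, rfl⟩ := QuotientGroup.mk_surjective e
  refine ⟨b, b.2, (b : G)⁻¹ * g, QuotientGroup.eq.1 he, ?_⟩
  group

variable {q : ℕ} [Fact q.Prime]

theorem isPGroup_zpowers {x : G} (hx : ∃ k, orderOf x = q ^ k) : IsPGroup q (Subgroup.zpowers x) := by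
  obtain ⟨k, hk⟩ := hx
  exact IsPGroup.of_card (by rw [Nat.card_zpowers, hk])

theorem qElement_map {G' : Type*} [Group G'] (f : G →* G') {x : G} (hx : ∃ k, orderOf x = q ^ k) :
    ∃ k, orderOf (f x) = q ^ k := by
  obtain ⟨k, hk⟩ := hx
  obtain ⟨i, -, hi⟩ := (Nat.dvd_prime_pow Fact.out).1 (hk ▸ orderOf_map_dvd f x)
  exact ⟨i, hi⟩

theorem qElement_of_mem {P : Subgroup G} (hP : IsPGroup q P) {x : G} (hx : x ∈ P) :
    ∃ k, orderOf x = q ^ k := by
  obtain ⟨e, he⟩ := hP.exists_card_eq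
  obtain ⟨i, -, hi⟩ := (Nat.dvd_prime_pow Fact.out).1 (he ▸ P.orderOf_dvd_natCard hx)
  exact ⟨i, hi⟩

/-- Class of `q`-power size: the element lies in the `q`-core. -/
theorem mem_pCore_of_class_q {x : G} (hx : ∃ k, orderOf x = q ^ k) {a : ℕ} (ha : cidx x = q ^ a) :
    x ∈ Cfsg.pCore q G := by
  obtain ⟨S, hS⟩ := (isPGroup_zpowers hx).exists_le_sylow
  have hcop : Nat.Coprime (cidx x) (S : Subgroup G).index := by
    rw [ha]
    exact Nat.Coprime.pow_left a ((Fact.out : q.Prime).coprime_iff_not_dvd.2 S.not_dvd_index)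
  have hle : Subgroup.normalClosure ({x} : Set G) ≤ (S : Subgroup G) := by
    refine (Subgroup.closure_le _).2 fun y hy => ?_
    obtain ⟨z, hz, hzy⟩ := Group.mem_conjugatesOfSet_iff.1 hy
    obtain ⟨c, hc⟩ := isConj_iff.1 hzy
    rw [Set.mem_singleton_iff] at hz
    subst hz
    obtain ⟨b, hb, e, he, rfl⟩ := exists_mul_eq hcop c
    rw [mem_cent] at he
    have h2 : y = b * z * b⁻¹ := by
      rw [← hc, show b * e * z * (b * e)⁻¹ = b * (e * z) * e⁻¹ * b⁻¹ by group, he]; group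
    rw [h2]
    exact mul_mem (mul_mem hb (hS (Subgroup.mem_zpowers z))) (inv_mem hb)
  have := Subgroup.normalClosure_normal (s := ({x} : Set G))
  exact Lib.Components.le_pCore (S.isPGroup'.to_le hle) (Subgroup.subset_normalClosure rfl)

/-- Class of `p`-power size, trivial `p`-core: the element lies in the `q`-core. -/
theorem mem_pCore_of_class_ne {p : ℕ} [Fact p.Prime] (hO : Cfsg.pCore p G = ⊥) {x : G}
    (hx : ∃ k, orderOf x = q ^ k) {a : ℕ} (ha : cidx x = p ^ a) : x ∈ Cfsg.pCore q G := by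
  obtain ⟨k, hk⟩ := hx
  have hxk : x ^ q ^ k = 1 := hk ▸ pow_orderOf_eq_one x
  have hcomm : ∀ y ∈ Group.conjugatesOfSet ({x} : Set G), ∀ z ∈ Group.conjugatesOfSet ({x} : Set G),
      y * z = z * y := by
    intro y hy z hz
    obtain ⟨_, hy1, hy2⟩ := Group.mem_conjugatesOfSet_iff.1 hy
    obtain ⟨_, hz1, hz2⟩ := Group.mem_conjugatesOfSet_iff.1 hz
    rw [Set.mem_singleton_iff] at hy1 hz1
    subst hy1 hz1
    obtain ⟨c, rfl⟩ := isConj_iff.1 hy2
    obtain ⟨d, rfl⟩ := isConj_iff.1 hz2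
    exact S4364.commute_conj hO _ ha c d
  have hp : IsPGroup q (Subgroup.normalClosure ({x} : Set G)) := by
    rintro ⟨y, hy⟩
    refine ⟨k, Subtype.ext ?_⟩
    change y ^ q ^ k = 1
    let _ := Subgroup.closureCommGroupOfComm hcomm
    induction hy using Subgroup.closure_induction with
    | mem y hy =>
      obtain ⟨_, hy1, hy2⟩ := Group.mem_conjugatesOfSet_iff.1 hy
      rw [Set.mem_singleton_iff] at hy1
      subst hy1
      obtain ⟨c, rfl⟩ := isConj_iff.1 hy2
      rw [conj_pow, hxk, mul_one, mul_inv_cancel]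
    | one => exact one_pow _
    | mul y z hy' hz' hy hz =>
      have hc : Commute y z := congrArg Subtype.val
        (mul_comm (⟨y, hy'⟩ : Subgroup.closure (Group.conjugatesOfSet ({x} : Set G))) ⟨z, hz'⟩)
      rw [hc.mul_pow, hy, hz, one_mul]
    | inv y _ hy => rw [inv_pow, hy, inv_one]
  have := Subgroup.normalClosure_normal (s := ({x} : Set G))
  exact Lib.Components.le_pCore hp (Subgroup.subset_normalClosure rfl)

/-- Modulo the largest normal subgroup of order prime to `q` the other cores are trivial. -/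
theorem pCore_quotient_eq_bot {r : ℕ} [Fact r.Prime] (hr : r ≠ q) [hK : (Cfsg.pPrimeCore q G).Normal] :
    Cfsg.pCore r (G ⧸ Cfsg.pPrimeCore q G) = ⊥ := by
  set K := Cfsg.pPrimeCore q G
  set π := QuotientGroup.mk' K
  set R := Cfsg.pCore r (G ⧸ K)
  have hR : R.Normal := by
    have : ∀ N ∈ {N : Subgroup (G ⧸ K) | N.Normal ∧ IsPGroup r N}, N.Normal := fun N h => h.1
    infer_instance
  have hn : (R.comap π).Normal := hR.comap π
  have hcard : Nat.card (R.comap π) = Nat.card K * Nat.card R := by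
    have h1 := Subgroup.card_mul_index (R.comap π)
    rw [Subgroup.index_comap_of_surjective _ (QuotientGroup.mk'_surjective K), ← (K).card_mul_index,
      show K.index = Nat.card (G ⧸ K) from rfl, ← R.card_mul_index, ← mul_assoc] at h1
    exact Nat.eq_of_mul_eq_mul_right (Nat.pos_of_ne_zero Subgroup.index_ne_zero_of_finite) h1
  obtain ⟨e, he⟩ := (Lib.Components.pCore_isPGroup (G := G ⧸ K) r).exists_card_eq
  have hle : R.comap π ≤ K := by
    refine Lib.Components.le_pPrimeCore (hN := hn) ?_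
    rw [hcard, he]
    exact Nat.Coprime.mul_left (Lib.Components.pPrimeCore_coprime q)
      (Nat.Coprime.pow_left e ((Nat.coprime_primes Fact.out Fact.out).2 hr))
  rw [eq_bot_iff, ← Subgroup.map_comap_eq_self_of_surjective (QuotientGroup.mk'_surjective K) R]
  refine (Subgroup.map_mono hle).trans (le_of_eq ?_)
  rw [Subgroup.map_eq_bot_iff, QuotientGroup.ker_mk']

/-- The hypothesis. -/
def IsBaer (q : ℕ) (G : Type*) [Group G] : Prop :=
  ∀ x : G, (∃ k : ℕ, orderOf x = q ^ k) → ∃ (r : ℕ) (a : ℕ), r.Prime ∧ cidx x = r ^ a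

variable (hB : IsBaer q G) (Q : Sylow q G) [hKn : (Cfsg.pPrimeCore q G).Normal]
include hB

theorem map_sylow_eq :
    (Q : Subgroup G).map (QuotientGroup.mk' (Cfsg.pPrimeCore q G)) = Cfsg.pCore q (G ⧸ Cfsg.pPrimeCore q G) := by
  set π := QuotientGroup.mk' (Cfsg.pPrimeCore q G) with hπ
  have hsurj : Function.Surjective π := QuotientGroup.mk'_surjective _
  have hle : (Q : Subgroup G).map π ≤ Cfsg.pCore q (G ⧸ Cfsg.pPrimeCore q G) := by
    rintro _ ⟨x, hx, rfl⟩
    have hxq := qElement_of_mem Q.isPGroup' hx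
    obtain ⟨r, a, hr, ha⟩ := hB x hxq
    have := Fact.mk hr
    obtain ⟨b, -, hb⟩ := (Nat.dvd_prime_pow hr).1 ((Lib.Kazarin.index_centralizer_map_dvd hsurj x).trans (dvd_of_eq ha))
    by_cases hrq : r = q
    · rw [hrq] at hb
      exact mem_pCore_of_class_q (qElement_map π hxq) hb
    · exact mem_pCore_of_class_ne (pCore_quotient_eq_bot hrq) (qElement_map π hxq) hb
  have hmax := (Q.mapSurjective hsurj).is_maximal' (Lib.Components.pCore_isPGroup q) hle
  exact hmax.symm.trans rfl |>.trans rfl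

theorem sup_sylow_eq :
    Cfsg.pPrimeCore q G ⊔ (Q : Subgroup G) =
      (Cfsg.pCore q (G ⧸ Cfsg.pPrimeCore q G)).comap (QuotientGroup.mk' (Cfsg.pPrimeCore q G)) := by
  rw [← map_sylow_eq hB Q, Subgroup.comap_map_eq, QuotientGroup.ker_mk', sup_comm]

omit hB in
theorem sylow_inf_core : (Q : Subgroup G) ⊓ Cfsg.pPrimeCore q G = ⊥ :=
  Lib.Components.inf_eq_bot_of_pGroup_coprime Q.isPGroup' (Lib.Components.pPrimeCore_coprime q)

/-- An element of the Sylow subgroup with class prime to `q` is central in it. -/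
theorem central_of_coprime {y : G} (hy : y ∈ (Q : Subgroup G)) (hi : ¬ q ∣ cidx y) :
    ∀ s ∈ (Q : Subgroup G), y * s = s * y := by
  intro s hs
  set π := QuotientGroup.mk' (Cfsg.pPrimeCore q G)
  have hsurj : Function.Surjective π := QuotientGroup.mk'_surjective _
  obtain ⟨S⟩ : Nonempty (Sylow q (Subgroup.centralizer ({y} : Set G))) := inferInstance
  have hidx : ¬ q ∣ ((S : Subgroup _).map (Subgroup.centralizer ({y} : Set G)).subtype).index := by
    rw [Subgroup.index_map_subtype]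
    exact fun h => ((Fact.out : q.Prime).dvd_mul.1 h).elim S.not_dvd_index hi
  set S' : Sylow q G := (S.isPGroup'.map (Subgroup.centralizer ({y} : Set G)).subtype).toSylow hidx with hS'
  have hSle : (S' : Subgroup G) ≤ Subgroup.centralizer ({y} : Set G) := by
    rw [hS', IsPGroup.toSylow_coe]; exact Subgroup.map_subtype_le _
  have hmem : π s ∈ (S' : Subgroup G).map π := by
    rw [map_sylow_eq hB S', ← map_sylow_eq hB Q]
    exact Subgroup.mem_map_of_mem _ hs
  obtain ⟨s', hs', he⟩ := hmem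
  have h1 : π ((y * s) * (s * y)⁻¹) = 1 := by
    rw [map_mul, map_inv, map_mul, map_mul, ← he, ← map_mul, ← map_mul, mem_cent.1 (hSle hs'), mul_inv_cancel]
  have h2 : (y * s) * (s * y)⁻¹ ∈ (Q : Subgroup G) ⊓ Cfsg.pPrimeCore q G :=
    Subgroup.mem_inf.2 ⟨mul_mem (mul_mem hy hs) (inv_mem (mul_mem hs hy)), (QuotientGroup.eq_one_iff _).1 h1⟩
  rw [sylow_inf_core Q, Subgroup.mem_bot, mul_inv_eq_one] at h2
  exact h2

/-- Nonabelian Sylow subgroup: it is normal, centralised by every element of order prime to `q`. -/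
theorem case_nonabelian {x₀ y₀ : G} (hx₀ : x₀ ∈ (Q : Subgroup G)) (hy₀ : y₀ ∈ (Q : Subgroup G))
    (hne : x₀ * y₀ ≠ y₀ * x₀) :
    (Q : Subgroup G).Normal ∧
      ∀ g : G, ∀ r k : ℕ, r.Prime → r ≠ q → orderOf g = r ^ k → ∀ x ∈ (Q : Subgroup G), g * x = x * g := by
  have hnc : ∀ x ∈ (Q : Subgroup G), (∃ s ∈ (Q : Subgroup G), x * s ≠ s * x) → ∃ a, cidx x = q ^ a := by
    rintro x hx ⟨s, hs, hxs⟩
    obtain ⟨r, a, hr, ha⟩ := hB x (qElement_of_mem Q.isPGroup' hx)
    by_cases hrq : r = q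
    · exact ⟨a, hrq ▸ ha⟩
    · refine absurd (central_of_coprime hB Q hx (fun h => hrq ?_) s hs) hxs
      rw [ha] at h
      exact ((Nat.prime_dvd_prime_iff_eq Fact.out hr).1 ((Fact.out : q.Prime).dvd_of_dvd_pow h)).symm
  have hgen : ∀ M : Subgroup G, (∀ x ∈ (Q : Subgroup G), (∃ s ∈ (Q : Subgroup G), x * s ≠ s * x) → x ∈ M) →
      (Q : Subgroup G) ≤ M := by
    intro M hM x hx
    by_cases hc : ∃ s ∈ (Q : Subgroup G), x * s ≠ s * x
    · exact hM x hx hc
    push Not at hc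
    have h1 : x * x₀ ∈ M := hM _ (mul_mem hx hx₀) ⟨y₀, hy₀, fun e => hne (by
      rw [mul_assoc, ← mul_assoc y₀ x x₀, ← hc y₀ hy₀, mul_assoc x y₀ x₀] at e
      exact mul_left_cancel e)⟩
    have h2 : x₀ ∈ M := hM _ hx₀ ⟨y₀, hy₀, hne⟩
    simpa using mul_mem h1 (inv_mem h2)
  have hQ : (Q : Subgroup G) = Cfsg.pCore q G := by
    have hle : (Q : Subgroup G) ≤ Cfsg.pCore q G := hgen _ fun x hx hc => by
      obtain ⟨a, ha⟩ := hnc x hx hc
      exact mem_pCore_of_class_q (qElement_of_mem Q.isPGroup' hx) ha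
    exact (Q.is_maximal' (Lib.Components.pCore_isPGroup q) hle).symm
  have hQn : (Q : Subgroup G).Normal := by
    rw [hQ]
    have : ∀ N ∈ {N : Subgroup G | N.Normal ∧ IsPGroup q N}, N.Normal := fun N h => h.1
    infer_instance
  refine ⟨hQn, fun g r k hr hrq hg => ?_⟩
  have := Fact.mk hr
  set F := (Q : Subgroup G) ⊓ Subgroup.centralizer ({g} : Set G)
  suffices hFQ : (Q : Subgroup G) ≤ F by
    exact fun x hx => (mem_cent.1 (hFQ hx).2).symm
  by_contra hF
  have hFtop : F.subgroupOf (Q : Subgroup G) ≠ ⊤ := fun h => hF (Subgroup.subgroupOf_eq_top.1 h)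
  obtain ⟨M, hMn, hFM, hMi⟩ := exists_normal_index_prime Q.isPGroup' _ hFtop
  have hM : ∀ (x : G) (hx : x ∈ (Q : Subgroup G)), (∃ s ∈ (Q : Subgroup G), x * s ≠ s * x) →
      (⟨x, hx⟩ : ↥(Q : Subgroup G)) ∈ M := by
    intro x hx hc
    obtain ⟨a, ha⟩ := hnc x hx hc
    obtain ⟨S₀⟩ : Nonempty (Sylow r (Subgroup.centralizer ({x} : Set G))) := inferInstance
    have hidx : ¬ r ∣ ((S₀ : Subgroup _).map (Subgroup.centralizer ({x} : Set G)).subtype).index := by
      rw [Subgroup.index_map_subtype]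
      refine fun h => (hr.dvd_mul.1 h).elim S₀.not_dvd_index fun h => hrq ?_
      rw [show (Subgroup.centralizer ({x} : Set G)).index = q ^ a from ha] at h
      exact (Nat.prime_dvd_prime_iff_eq hr Fact.out).1 (hr.dvd_of_dvd_pow h)
    obtain ⟨R, hR⟩ := (isPGroup_zpowers (q := r) (x := g) ⟨k, hg⟩).exists_le_sylow
    obtain ⟨c, hc'⟩ := MulAction.exists_smul_eq G R
      ((S₀.isPGroup'.map (Subgroup.centralizer ({x} : Set G)).subtype).toSylow hidx)
    have hcg : c * g * c⁻¹ ∈ Subgroup.centralizer ({x} : Set G) := by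
      have h1 : c * g * c⁻¹ ∈ ((c • R : Sylow r G) : Subgroup G) := by
        rw [Sylow.coe_subgroup_smul]
        exact Subgroup.smul_mem_pointwise_smul g (MulAut.conj c) _ (hR (Subgroup.mem_zpowers g))
      rw [hc', IsPGroup.toSylow_coe] at h1
      exact Subgroup.map_subtype_le _ h1
    have hcop : Nat.Coprime (cidx x) (Q : Subgroup G).index := by
      rw [ha]
      exact Nat.Coprime.pow_left a ((Fact.out : q.Prime).coprime_iff_not_dvd.2 Q.not_dvd_index)
    obtain ⟨b, hb, e, he, hbe⟩ := exists_mul_eq hcop c⁻¹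
    rw [mem_cent] at hcg he
    have hcx : c⁻¹ * x * c = b * x * b⁻¹ := by
      calc c⁻¹ * x * c = b * (e * x) * e⁻¹ * b⁻¹ := by
            rw [show c = (b * e)⁻¹ by rw [← hbe, inv_inv]]; group
        _ = _ := by rw [he]; group
    have hxF : b * x * b⁻¹ ∈ F := by
      refine Subgroup.mem_inf.2 ⟨mul_mem (mul_mem hb hx) (inv_mem hb), mem_cent.2 ?_⟩
      rw [← hcx]
      calc c⁻¹ * x * c * g = c⁻¹ * (x * (c * g * c⁻¹)) * c := by group
        _ = c⁻¹ * ((c * g * c⁻¹) * x) * c := by rw [hcg]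
        _ = g * (c⁻¹ * x * c) := by group
    have hmem : (⟨b, hb⟩ * ⟨x, hx⟩ * ⟨b, hb⟩⁻¹ : ↥(Q : Subgroup G)) ∈ M := hFM hxF
    have := hMn.conj_mem _ hmem (⟨b, hb⟩⁻¹)
    rwa [show (⟨b, hb⟩ : ↥(Q : Subgroup G))⁻¹ * (⟨b, hb⟩ * ⟨x, hx⟩ * ⟨b, hb⟩⁻¹) * (⟨b, hb⟩⁻¹)⁻¹ = ⟨x, hx⟩ by
      group] at this
  have hle := hgen (M.map (Q : Subgroup G).subtype) fun x hx hc => ⟨⟨x, hx⟩, hM x hx hc, rfl⟩
  have hMtop : M = ⊤ := eq_top_iff.2 fun x _ => by
    obtain ⟨y, hy, he⟩ := hle x.2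
    exact (Subtype.ext he : y = x) ▸ hy
  rw [hMtop, Subgroup.index_top] at hMi
  exact (Fact.out : q.Prime).one_lt.ne hMi

omit hB in
/-- Two classes for different primes. -/
theorem two_classes_false {x y : G} {r s t a b c : ℕ} (hr : r.Prime) (hs : s.Prime) (ht : t.Prime)
    (hyq : ∃ k, orderOf y = q ^ k) (hrq : r ≠ q) (hxa : cidx x = r ^ a) (hyb : cidx y = s ^ b)
    (hxyc : cidx (x * y) = t ^ c) (hcm : x * y = y * x) (hrs : r ≠ s) (hts : t ≠ s) (hb : b ≠ 0) : False := by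
  classical
  have := Fact.mk hr
  have hcop : Nat.Coprime (cidx x) (cidx y) := by
    rw [hxa, hyb]; exact Nat.Coprime.pow a b ((Nat.coprime_primes hr hs).2 hrs)
  have hcop2 : Nat.Coprime (cidx (x * y)) (cidx y) := by
    rw [hxyc, hyb]; exact Nat.Coprime.pow c b ((Nat.coprime_primes ht hs).2 hts)
  let X : Set G := Set.range fun g => g * x * g⁻¹
  have hstep : ∀ x' ∈ X, ∀ g : G, x' * (g * y * g⁻¹ * y⁻¹) ∈ X := by
    rintro _ ⟨c₀, rfl⟩ g
    obtain ⟨e, he, f, hf, hef⟩ := exists_mul_eq hcop.symm (c₀⁻¹ * g)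
    rw [mem_cent] at he hf
    obtain ⟨b₁, hb₁, a₁, ha₁, hba⟩ := exists_mul_eq hcop2 (c₀ * e)
    rw [mem_cent] at hb₁ ha₁
    refine ⟨b₁, ?_⟩
    have hg : g = c₀ * e * f := by rw [mul_assoc, ← hef, mul_inv_cancel_left]
    have h1 : c₀ * x * c₀⁻¹ * (g * y * g⁻¹) = (c₀ * e) * (x * y) * (c₀ * e)⁻¹ := by
      rw [hg, show c₀ * e * f * y * (c₀ * e * f)⁻¹ = c₀ * e * (f * y) * f⁻¹ * e⁻¹ * c₀⁻¹ by group, hf]
      calc c₀ * x * c₀⁻¹ * (c₀ * e * (y * f) * f⁻¹ * e⁻¹ * c₀⁻¹) = c₀ * (x * e) * y * e⁻¹ * c₀⁻¹ := by group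
        _ = _ := by rw [← he]; group
    have h2 : (c₀ * e) * (x * y) * (c₀ * e)⁻¹ = b₁ * x * b₁⁻¹ * y := by
      rw [hba]
      calc b₁ * a₁ * (x * y) * (b₁ * a₁)⁻¹ = b₁ * (a₁ * (x * y)) * a₁⁻¹ * b₁⁻¹ := by group
        _ = b₁ * x * (y * b₁⁻¹) := by rw [ha₁]; group
        _ = _ := by
          rw [show y * b₁⁻¹ = b₁⁻¹ * y from ((show Commute b₁ y from hb₁).inv_left).eq.symm]; group
    change b₁ * x * b₁⁻¹ = c₀ * x * c₀⁻¹ * (g * y * g⁻¹ * y⁻¹)
    rw [← mul_assoc, h1, h2, mul_inv_cancel_right]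
  let B := Subgroup.closure (Set.range fun g => g * y * g⁻¹ * y⁻¹)
  have hXB : ∀ z ∈ B, (∀ x' ∈ X, x' * z ∈ X) ∧ ∀ x' ∈ X, x' * z⁻¹ ∈ X := by
    intro z hz
    induction hz using Subgroup.closure_induction with
    | mem z hz =>
      obtain ⟨g, rfl⟩ := hz
      refine ⟨fun x' hx' => hstep x' hx' g, fun x' hx' => ?_⟩
      set z := g * y * g⁻¹ * y⁻¹ with hz
      have hpow : ∀ n : ℕ, x' * z ^ n ∈ X := by
        intro n
        induction n with
        | zero => simpa using hx'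
        | succ n ih => rw [pow_succ, ← mul_assoc]; exact hstep _ ih g
      have h := hpow (orderOf z - 1)
      rwa [← eq_inv_of_mul_eq_one_left (show z ^ (orderOf z - 1) * z = 1 by
        rw [← pow_succ, Nat.sub_add_cancel (orderOf_pos z), pow_orderOf_eq_one])] at *
    | one => simp
    | mul z w _ _ hz hw =>
      exact ⟨fun x' h => by rw [← mul_assoc]; exact hw.1 _ (hz.1 _ h),
        fun x' h => by rw [mul_inv_rev, ← mul_assoc]; exact hz.2 _ (hw.2 _ h)⟩
    | inv z _ hz => exact ⟨hz.2, fun x' h => by rw [inv_inv]; exact hz.1 _ h⟩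
  have hXeq : QuotientGroup.mk ⁻¹' ((QuotientGroup.mk : G → G ⧸ B) '' X) = X := by
    refine Set.Subset.antisymm ?_ (Set.subset_preimage_image _ _)
    rintro z ⟨w, hw, he⟩
    have := (hXB _ (QuotientGroup.eq.1 he)).1 w hw
    simpa using this
  have hcardX : Nat.card X = cidx x := by
    have h1 : X = MulAction.orbit (ConjAct G) x := by
      ext z
      constructor
      · rintro ⟨g, rfl⟩; exact ⟨ConjAct.toConjAct g, by simp [ConjAct.toConjAct_smul]⟩
      · rintro ⟨g, rfl⟩; exact ⟨ConjAct.ofConjAct g, by simp [ConjAct.smul_def]⟩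
    change Nat.card X = (Subgroup.centralizer ({x} : Set G)).index
    rw [h1, Nat.card_coe_set_eq, ← MulAction.index_stabilizer, ConjAct.stabilizer_eq_centralizer]
    rfl
  have hBdvd : Nat.card B ∣ r ^ a := by
    have h1 := Nat.card_congr (QuotientGroup.preimageMkEquivSubgroupProdSet B
      ((QuotientGroup.mk : G → G ⧸ B) '' X))
    rw [hXeq, hcardX, hxa, Nat.card_prod] at h1
    exact h1 ▸ dvd_mul_right _ _
  obtain ⟨m, -, hm⟩ := (Nat.dvd_prime_pow hr).1 hBdvd
  have hBr : IsPGroup r B := IsPGroup.of_card hm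
  have hBn : B.Normal := by
    refine ⟨fun z hz h => ?_⟩
    induction hz using Subgroup.closure_induction with
    | mem z hz =>
      obtain ⟨g, rfl⟩ := hz
      rw [show h * (g * y * g⁻¹ * y⁻¹) * h⁻¹ = (h * g * y * (h * g)⁻¹ * y⁻¹) * (h * y * h⁻¹ * y⁻¹)⁻¹ by group]
      exact mul_mem (Subgroup.subset_closure ⟨_, rfl⟩) (inv_mem (Subgroup.subset_closure ⟨_, rfl⟩))
    | one => simp
    | mul z w _ _ hz hw =>
      rw [show h * (z * w) * h⁻¹ = h * z * h⁻¹ * (h * w * h⁻¹) by group]; exact mul_mem hz hw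
    | inv z _ hz => rw [show h * z⁻¹ * h⁻¹ = (h * z * h⁻¹)⁻¹ by group]; exact inv_mem hz
  obtain ⟨R⟩ : Nonempty (Sylow r (Subgroup.centralizer ({y} : Set G))) := inferInstance
  have hidx : ¬ r ∣ ((R : Subgroup _).map (Subgroup.centralizer ({y} : Set G)).subtype).index := by
    rw [Subgroup.index_map_subtype]
    refine fun h => (hr.dvd_mul.1 h).elim R.not_dvd_index fun h => hrs ?_
    rw [show (Subgroup.centralizer ({y} : Set G)).index = s ^ b from hyb] at h
    exact (Nat.prime_dvd_prime_iff_eq hr hs).1 (hr.dvd_of_dvd_pow h)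
  have hRp := R.isPGroup'.map (Subgroup.centralizer ({y} : Set G)).subtype
  have hle := (hRp.toSylow hidx).is_maximal' (hBr.to_sup_of_normal_left hRp)
    (by rw [IsPGroup.toSylow_coe]; exact le_sup_right)
  rw [IsPGroup.toSylow_coe] at hle
  have hBC : B ≤ Subgroup.centralizer ({y} : Set G) :=
    le_sup_left.trans (hle.le.trans (Subgroup.map_subtype_le _))
  have hcent : Subgroup.centralizer ({y} : Set G) = ⊤ := by
    refine eq_top_iff.2 fun g _ => mem_cent.2 ?_
    have hzB : g * y * g⁻¹ * y⁻¹ ∈ B := Subgroup.subset_closure ⟨g, rfl⟩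
    set z := g * y * g⁻¹ * y⁻¹ with hz
    have hzy : Commute z y := mem_cent.1 (hBC hzB)
    have hgy : g * y * g⁻¹ = z * y := by rw [hz, inv_mul_cancel_right]
    obtain ⟨k, hk⟩ := hyq
    have h1 : (z * y) ^ q ^ k = 1 := by
      rw [← hgy, conj_pow, ← hk, pow_orderOf_eq_one, mul_one, mul_inv_cancel]
    rw [hzy.mul_pow, ← hk, pow_orderOf_eq_one y, mul_one, hk] at h1
    have h2 : orderOf z ∣ Nat.gcd (q ^ k) (r ^ m) :=
      Nat.dvd_gcd (orderOf_dvd_of_pow_eq_one h1) (hm ▸ B.orderOf_dvd_natCard hzB)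
    rw [(Nat.Coprime.pow k m ((Nat.coprime_primes Fact.out hr).2 hrq.symm)).gcd_eq_one, Nat.dvd_one,
      orderOf_eq_one_iff] at h2
    rw [h2, one_mul] at hgy
    exact mul_inv_eq_iff_eq_mul.1 hgy
  rw [cidx, hcent, Subgroup.index_top] at hyb
  rcases Nat.pow_eq_one.1 hyb.symm with h | h
  · exact hs.one_lt.ne' h
  · exact hb h

end Cfsg.Agent.Lib.QBaer
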