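import Cfsg.Agent.Lib.QBaer.Classes
import Cfsg.Agent.Lib.QBaer.Solvable

/-!
The structure of a group whose `q`-elements have classes of prime-power size.
-/

universe u

namespace Cfsg.Agent.Lib.QBaer

open Subgroup

variable {G : Type u} [Group G] [Finite G] {q : ℕ} [Fact q.Prime]

theorem cidx_conj (c x : G) : cidx (c * x * c⁻¹) = cidx x := by
  have h : Subgroup.centralizer ({c * x * c⁻¹} : Set G) =
      (Subgroup.centralizer ({x} : Set G)).map (MulAut.conj c).toMonoidHom := by
    ext g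
    rw [mem_cent]
    constructor
    · intro h
      refine ⟨c⁻¹ * g * c, mem_cent.2 ?_, by change c * (c⁻¹ * g * c) * c⁻¹ = g; group⟩
      calc c⁻¹ * g * c * x = c⁻¹ * (g * (c * x * c⁻¹)) * c := by group
        _ = c⁻¹ * ((c * x * c⁻¹) * g) * c := by rw [h]
        _ = x * (c⁻¹ * g * c) := by group
    · rintro ⟨e, he, rfl⟩
      change c * e * c⁻¹ * (c * x * c⁻¹) = c * x * c⁻¹ * (c * e * c⁻¹)
      calc c * e * c⁻¹ * (c * x * c⁻¹) = c * (e * x) * c⁻¹ := by group
        _ = c * (x * e) * c⁻¹ := by rw [mem_cent.1 he]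
        _ = _ := by group
  rw [cidx, h]
  exact Subgroup.index_map_equiv _ (MulAut.conj c)

theorem exists_conj_mem (Q : Sylow q G) {x : G} (hx : ∃ k, orderOf x = q ^ k) :
    ∃ c : G, c * x * c⁻¹ ∈ (Q : Subgroup G) := by
  obtain ⟨S, hS⟩ := (isPGroup_zpowers hx).exists_le_sylow
  obtain ⟨c, hc⟩ := MulAction.exists_smul_eq G S Q
  refine ⟨c, ?_⟩
  rw [← hc, Sylow.coe_subgroup_smul]
  exact Subgroup.smul_mem_pointwise_smul x (MulAut.conj c) _ (hS (Subgroup.mem_zpowers x))

/-- The Sylow subgroup is a direct factor when all elements of order prime to `q` centralise it. -/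
theorem direct_factor (Q : Sylow q G) (hQn : (Q : Subgroup G).Normal)
    (hcent : ∀ g : G, ∀ r k : ℕ, r.Prime → r ≠ q → orderOf g = r ^ k → ∀ x ∈ (Q : Subgroup G), g * x = x * g) :
    (∀ x : G, (∃ k, orderOf x = q ^ k) → ∃ a, cidx x = q ^ a) ∧
      ∃ N : Subgroup G, N.Normal ∧ N.IsComplement' (Q : Subgroup G) := by
  have hcopQ : Nat.Coprime (Nat.card (Q : Subgroup G)) (Q : Subgroup G).index := by
    obtain ⟨e, he⟩ := Q.isPGroup'.exists_card_eq
    rw [he]
    exact Nat.Coprime.pow_left e ((Fact.out : q.Prime).coprime_iff_not_dvd.2 Q.not_dvd_index)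
  obtain ⟨N, hN⟩ := Subgroup.exists_left_complement'_of_coprime hcopQ
  have hNcard : Nat.card N = (Q : Subgroup G).index := hN.index_eq_card.symm
  have hle : N ≤ Subgroup.centralizer ((Q : Subgroup G) : Set G) := by
    rw [← Subgroup.subgroupOf_eq_top]
    refine Lib.Components.eq_top_of_forall_sylow_le fun r hr => ?_
    have := Fact.mk hr
    obtain ⟨R⟩ : Nonempty (Sylow r N) := inferInstance
    refine ⟨R, fun n hn => ?_⟩
    obtain ⟨k, hk⟩ := qElement_of_mem R.isPGroup' hn
    refine Subgroup.mem_centralizer_iff.2 fun x hx => ?_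
    by_cases hrq : r = q
    · have h1 : orderOf n ∣ Nat.gcd (q ^ k) (Q : Subgroup G).index :=
        Nat.dvd_gcd (by rw [hk, hrq]) (hNcard ▸ orderOf_dvd_natCard n)
      rw [(Nat.Coprime.pow_left k ((Fact.out : q.Prime).coprime_iff_not_dvd.2 Q.not_dvd_index)).gcd_eq_one,
        Nat.dvd_one, orderOf_eq_one_iff] at h1
      simp [h1]
    · exact (hcent n r k hr hrq (by rw [Subgroup.orderOf_coe]; exact hk) x hx).symm
  have hNn : N.Normal := by
    refine ⟨fun n hn g => ?_⟩
    obtain ⟨⟨⟨m, hm⟩, ⟨s, hs⟩⟩, hg⟩ := (Subgroup.isComplement_iff_existsUnique.1 hN g).exists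
    simp only at hg
    subst hg
    have hsn : s * n = n * s := Subgroup.mem_centralizer_iff.1 (hle hn) s hs
    rw [show m * s * n * (m * s)⁻¹ = m * (s * n * s⁻¹) * m⁻¹ by group, hsn, mul_inv_cancel_right]
    exact mul_mem (mul_mem hm hn) (inv_mem hm)
  refine ⟨fun x hx => ?_, N, hNn, hN⟩
  obtain ⟨c, hc⟩ := exists_conj_mem Q hx
  rw [← cidx_conj c x]
  have hNC : N ≤ Subgroup.centralizer ({c * x * c⁻¹} : Set G) := fun n hn =>
    mem_cent.2 (Subgroup.mem_centralizer_iff.1 (hle hn) _ hc).symm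
  have h1 := Subgroup.index_dvd_of_le hNC
  rw [hN.symm.index_eq_card] at h1
  obtain ⟨e, he⟩ := Q.isPGroup'.exists_card_eq
  rw [he] at h1
  obtain ⟨a, -, ha⟩ := (Nat.dvd_prime_pow Fact.out).1 h1
  exact ⟨a, ha⟩

/-- In the abelian case one prime serves. -/
theorem one_prime (hB : IsBaer q G) (Q : Sylow q G) (hab : ∀ x ∈ (Q : Subgroup G), ∀ y ∈ (Q : Subgroup G), x * y = y * x)
    {x₀ : G} (hx₀ : x₀ ∈ (Q : Subgroup G)) {g₀ : G} (hne : x₀ * g₀ ≠ g₀ * x₀) :
    ∃ p, p.Prime ∧ p ≠ q ∧ ∀ x : G, (∃ k, orderOf x = q ^ k) → ∃ a, cidx x = p ^ a := by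
  have hdata : ∀ x ∈ (Q : Subgroup G), ∀ r a : ℕ, r.Prime → cidx x = r ^ a → a ≠ 0 → r ≠ q := by
    intro x hx r a hr hxa ha hrq
    have hQC : (Q : Subgroup G) ≤ Subgroup.centralizer ({x} : Set G) := fun s hs => mem_cent.2 (hab s hs x hx)
    refine Q.not_dvd_index ((?_ : q ∣ (Subgroup.centralizer ({x} : Set G)).index).trans (Subgroup.index_dvd_of_le hQC))
    rw [show (Subgroup.centralizer ({x} : Set G)).index = r ^ a from hxa, hrq]
    exact dvd_pow_self q ha
  obtain ⟨p, a, hp, ha⟩ := hB x₀ (qElement_of_mem Q.isPGroup' hx₀)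
  have ha0 : a ≠ 0 := by
    rintro rfl
    rw [pow_zero, cidx, Subgroup.index_eq_one] at ha
    have := Subgroup.mem_top g₀
    rw [← ha, mem_cent] at this
    exact hne this.symm
  refine ⟨p, hp, hdata x₀ hx₀ p a hp ha ha0, fun x hx => ?_⟩
  obtain ⟨c, hc⟩ := exists_conj_mem Q hx
  rw [← cidx_conj c x]
  set y := c * x * c⁻¹
  obtain ⟨s, b, hs, hb⟩ := hB y (qElement_of_mem Q.isPGroup' hc)
  rcases eq_or_ne b 0 with rfl | hb0
  · exact ⟨0, by rw [hb, pow_zero, pow_zero]⟩
  rcases eq_or_ne s p with rfl | hsp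
  · exact ⟨b, hb⟩
  exfalso
  obtain ⟨t, e, ht, he⟩ := hB (x₀ * y) (qElement_of_mem Q.isPGroup' (mul_mem hx₀ hc))
  by_cases hts : t = s
  · subst hts
    refine two_classes_false (q := q) hs hp ht (qElement_of_mem Q.isPGroup' hx₀) (hdata y hc t b hs hb hb0)
      hb ha (c := e) ?_ (hab y hc x₀ hx₀) hsp hsp ha0
    rw [hab y hc x₀ hx₀]; exact he
  · exact two_classes_false (q := q) hp hs ht (qElement_of_mem Q.isPGroup' hc) (hdata x₀ hx₀ p a hp ha ha0)
      ha hb he (hab x₀ hx₀ y hc) hsp.symm hts hb0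

/-- The join of the `p`-core and the Sylow subgroup is normal. -/
theorem sup_pCore_normal {p : ℕ} [Fact p.Prime] (hpq : p ≠ q) (Q : Sylow q G)
    (hp : ∀ x ∈ (Q : Subgroup G), ∃ a, cidx x = p ^ a) :
    (Cfsg.pCore p G ⊔ (Q : Subgroup G)).Normal := by
  have hn : (Cfsg.pCore p G).Normal := by
    have : ∀ N ∈ {N : Subgroup G | N.Normal ∧ IsPGroup p N}, N.Normal := fun N h => h.1
    infer_instance
  set π := QuotientGroup.mk' (Cfsg.pCore p G)
  have hsurj : Function.Surjective π := QuotientGroup.mk'_surjective _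
  have hle : (Q : Subgroup G).map π ≤ Cfsg.pCore q (G ⧸ Cfsg.pCore p G) := by
    rintro _ ⟨x, hx, rfl⟩
    obtain ⟨a, ha⟩ := hp x hx
    obtain ⟨b, -, hb⟩ := (Nat.dvd_prime_pow Fact.out).1
      ((Lib.Kazarin.index_centralizer_map_dvd hsurj x).trans (dvd_of_eq ha))
    exact mem_pCore_of_class_ne (p := p) Lib.PLength.pCore_quotient_pCore_eq_bot
      (qElement_map π (qElement_of_mem Q.isPGroup' hx)) hb
  have heq : (Q : Subgroup G).map π = Cfsg.pCore q (G ⧸ Cfsg.pCore p G) :=
    ((Q.mapSurjective hsurj).is_maximal' (Lib.Components.pCore_isPGroup q) hle).symm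
  have h1 : Cfsg.pCore p G ⊔ (Q : Subgroup G) = (Cfsg.pCore q (G ⧸ Cfsg.pCore p G)).comap π := by
    rw [← heq, Subgroup.comap_map_eq, QuotientGroup.ker_mk', sup_comm]
  rw [h1]
  have : ∀ N ∈ {N : Subgroup (G ⧸ Cfsg.pCore p G) | N.Normal ∧ IsPGroup q N}, N.Normal := fun N h => h.1
  exact Subgroup.Normal.comap inferInstance π

/-- Solvability of a group with a normal abelian self-centralising Sylow `q`-subgroup. -/
theorem solvable_of_self_centralizing {p : ℕ} (hp : p.Prime) (hpq : p ≠ q) (A : Subgroup G) [A.Normal]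
    (hA : IsPGroup q A) (hAi : ¬ q ∣ A.index) (hab : ∀ x ∈ A, ∀ y ∈ A, x * y = y * x)
    (hidx : ∀ x ∈ A, ∃ a, cidx x = p ^ a)
    (hO : ∀ N : Subgroup G, N.Normal → (Nat.card N).Coprime q → N = ⊥) : Group.IsSolvable G := by
  classical
  obtain ⟨e, he⟩ := hA.exists_card_eq
  have hcop : Nat.Coprime (Nat.card A) A.index := by
    rw [he]; exact Nat.Coprime.pow_left e ((Fact.out : q.Prime).coprime_iff_not_dvd.2 hAi)
  obtain ⟨H, hH⟩ := Subgroup.exists_left_complement'_of_coprime hcop
  have hHcard : Nat.card H = A.index := hH.index_eq_card.symm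
  have hHi : H.index = q ^ e := by rw [hH.symm.index_eq_card, he]
  have hdec : ∀ g : G, ∃ h ∈ H, ∃ s ∈ A, g = h * s := by
    intro g
    obtain ⟨⟨⟨m, hm⟩, ⟨s, hs⟩⟩, hg⟩ := (Subgroup.isComplement_iff_existsUnique.1 hH g).exists
    exact ⟨m, hm, s, hs, hg.symm⟩
  let U : Subgroup G :=
    { carrier := {x | x ∈ A ∧ x ^ q = 1}
      one_mem' := ⟨one_mem A, one_pow q⟩
      mul_mem' := fun {a b} ha hb => ⟨mul_mem ha.1 hb.1, by
        rw [(show Commute a b from hab a ha.1 b hb.1).mul_pow, ha.2, hb.2, one_mul]⟩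
      inv_mem' := fun {a} ha => ⟨inv_mem ha.1, by rw [inv_pow, ha.2, inv_one]⟩ }
  have hUn : ∀ g : G, ∀ x ∈ U, g * x * g⁻¹ ∈ U := fun g x hx =>
    ⟨Subgroup.Normal.conj_mem inferInstance x hx.1 g, by rw [conj_pow, hx.2, mul_one, mul_inv_cancel]⟩
  let _ : CommGroup U :=
    { (inferInstance : Group U) with mul_comm := fun a b => Subtype.ext (hab a a.2.1 b b.2.1) }
  let actU : DistribMulAction H (Additive U) :=
    { smul := fun h v => Additive.ofMul ⟨(h : G) * ((Additive.toMul v : U) : G) * (h : G)⁻¹,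
        hUn h _ (Additive.toMul v).2⟩
      one_smul := fun v => congrArg Additive.ofMul (Subtype.ext (by simp; rfl))
      mul_smul := fun a b v => congrArg Additive.ofMul (Subtype.ext (by
        change ((a * b : H) : G) * _ * ((a * b : H) : G)⁻¹ = (a : G) * ((b : G) * _ * (b : G)⁻¹) * (a : G)⁻¹
        rw [Subgroup.coe_mul]; group))
      smul_zero := fun a => congrArg Additive.ofMul (Subtype.ext (by simp))
      smul_add := fun a v w => congrArg Additive.ofMul (Subtype.ext (by
        change (a : G) * (((Additive.toMul v : U) : G) * ((Additive.toMul w : U) : G)) * (a : G)⁻¹ =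
          (a : G) * ((Additive.toMul v : U) : G) * (a : G)⁻¹ * ((a : G) * ((Additive.toMul w : U) : G) * (a : G)⁻¹)
        group)) }
  have hsolvH : Group.IsSolvable H := by
    refine solvable_of_orbits (V := Additive U) (q := q) (p := p) Fact.out hp hpq ?_ ?_ ?_ ?_
    · rw [hHcard]; exact hAi
    · intro v
      refine Additive.toMul.injective (Subtype.ext ?_)
      change (((Additive.toMul v : U) ^ q : U) : G) = 1
      rw [Subgroup.coe_pow]
      exact (Additive.toMul v).2.2
    · intro v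
      set x : G := ((Additive.toMul v : U) : G)
      obtain ⟨a, ha⟩ := hidx x (Additive.toMul v).2.1
      refine ⟨a, ?_⟩
      have hst : MulAction.stabilizer H v = (Subgroup.centralizer ({x} : Set G)).subgroupOf H := by
        ext h
        rw [Subgroup.mem_subgroupOf, mem_cent]
        constructor
        · intro hh
          have h1 : (h : G) * x * (h : G)⁻¹ = x :=
            congrArg (fun w : Additive U => ((Additive.toMul w : U) : G)) (hh : h • v = v)
          exact mul_inv_eq_iff_eq_mul.1 h1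
        · intro hh
          exact congrArg Additive.ofMul (Subtype.ext (mul_inv_eq_iff_eq_mul.2 hh))
      rw [hst]
      change (Subgroup.centralizer ({x} : Set G)).relIndex H = p ^ a
      rw [← ha]
      refine relIndex_eq_of_coprime ?_
      rw [show (Subgroup.centralizer ({x} : Set G)).index = p ^ a from ha, hHi]
      exact Nat.Coprime.pow a e ((Nat.coprime_primes hp Fact.out).2 hpq)
    · intro h hh
      have hfixU : ∀ x ∈ U, (h : G) * x = x * (h : G) := fun x hx => mul_inv_eq_iff_eq_mul.1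
        (congrArg (fun w : Additive U => ((Additive.toMul w : U) : G)) (hh (Additive.ofMul ⟨x, hx⟩)))
      have hall : ∀ k, ∀ x ∈ A, x ^ q ^ k = 1 → (h : G) * x = x * (h : G) := by
        intro k
        induction k with
        | zero =>
          intro x _ hx
          rw [pow_zero, pow_one] at hx
          simp [hx]
        | succ k ih =>
          intro x hx hxk
          set y := (h : G) * x * (h : G)⁻¹ * x⁻¹ with hy
          have hxq : (h : G) * x ^ q = x ^ q * (h : G) :=
            ih _ (pow_mem hx q) (by rw [← pow_mul, ← pow_succ', hxk])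
          have hyA : y ∈ A := mul_mem (Subgroup.Normal.conj_mem inferInstance x hx _) (inv_mem hx)
          have hyq : y ^ q = 1 := by
            rw [hy, (show Commute ((h : G) * x * (h : G)⁻¹) x⁻¹ from
              hab _ (Subgroup.Normal.conj_mem inferInstance x hx _) _ (inv_mem hx)).mul_pow, conj_pow, hxq,
              mul_inv_cancel_right, inv_pow, mul_inv_cancel]
          have hyh := hfixU y ⟨hyA, hyq⟩
          have hconj : (h : G) * x * (h : G)⁻¹ = y * x := by rw [hy, inv_mul_cancel_right]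
          have hiter : ∀ m : ℕ, (h : G) ^ m * x * ((h : G) ^ m)⁻¹ = y ^ m * x := by
            intro m
            induction m with
            | zero => simp
            | succ m ihm =>
              calc (h : G) ^ (m + 1) * x * ((h : G) ^ (m + 1))⁻¹
                  = (h : G) * ((h : G) ^ m * x * ((h : G) ^ m)⁻¹) * (h : G)⁻¹ := by rw [pow_succ']; group
                _ = (h : G) * y ^ m * (x * (h : G)⁻¹) := by rw [ihm]; group
                _ = y ^ m * ((h : G) * x * (h : G)⁻¹) := by
                  rw [(show Commute (h : G) (y ^ m) from Commute.pow_right hyh m).eq]; group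
                _ = y ^ (m + 1) * x := by rw [hconj, pow_succ]; exact (mul_assoc _ _ _).symm
          have h1 := hiter (orderOf (h : G))
          rw [pow_orderOf_eq_one, one_mul, inv_one, mul_one, right_eq_mul] at h1
          have h2 : orderOf y ∣ Nat.gcd q (orderOf (h : G)) :=
            Nat.dvd_gcd (orderOf_dvd_of_pow_eq_one hyq) (orderOf_dvd_of_pow_eq_one h1)
          have hhq : ¬ q ∣ orderOf (h : G) := fun hd => hAi (hHcard ▸ hd.trans (H.orderOf_dvd_natCard h.2))
          rw [((Fact.out : q.Prime).coprime_iff_not_dvd.2 hhq).gcd_eq_one, Nat.dvd_one, orderOf_eq_one_iff] at h2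
          rw [h2, one_mul] at hconj
          exact mul_inv_eq_iff_eq_mul.1 hconj
      let M : Subgroup G := Subgroup.centralizer (A : Set G) ⊓ H
      have hMn : M.Normal := by
        refine ⟨fun m hm g => ?_⟩
        obtain ⟨hmC, hmH⟩ := Subgroup.mem_inf.1 hm
        obtain ⟨k, hk, s, hs, rfl⟩ := hdec g
        have hsm : s * m = m * s := Subgroup.mem_centralizer_iff.1 hmC s hs
        have hC : (Subgroup.centralizer (A : Set G)).Normal := inferInstance
        rw [show k * s * m * (k * s)⁻¹ = k * (s * m * s⁻¹) * k⁻¹ by group, hsm, mul_inv_cancel_right]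
        exact Subgroup.mem_inf.2 ⟨hC.conj_mem m hmC k, mul_mem (mul_mem hk hmH) (inv_mem hk)⟩
      have hMcard : (Nat.card M).Coprime q := by
        have h1 : Nat.card M ∣ A.index := hHcard ▸ Subgroup.card_dvd_of_le (inf_le_right : M ≤ H)
        exact Nat.Coprime.coprime_dvd_left h1 ((Fact.out : q.Prime).coprime_iff_not_dvd.2 hAi).symm
      have hM := hO M hMn hMcard
      have hmem : (h : G) ∈ M := by
        refine Subgroup.mem_inf.2 ⟨Subgroup.mem_centralizer_iff.2 fun x hx => ?_, h.2⟩
        exact (hall e x hx (he ▸ orderOf_dvd_iff_pow_eq_one.1 (A.orderOf_dvd_natCard hx))).symm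
      rw [hM, Subgroup.mem_bot] at hmem
      exact Subtype.ext hmem
  have hAs : Group.IsSolvable A := Group.isSolvable_of_comm fun a b => Subtype.ext (hab a a.2 b b.2)
  have hquot : Group.IsSolvable (G ⧸ A) := by
    refine Group.isSolvable_of_surjective (f := (QuotientGroup.mk' A).comp H.subtype) ?_
    intro z
    obtain ⟨g, rfl⟩ := QuotientGroup.mk_surjective z
    obtain ⟨k, hk, s, hs, rfl⟩ := hdec g
    exact ⟨⟨k, hk⟩, QuotientGroup.eq.2 (by simpa using hs)⟩
  exact Group.isSolvable_of_ker_le_range A.subtype (QuotientGroup.mk' A)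
    (by rw [QuotientGroup.ker_mk', Subgroup.range_subtype])

end Cfsg.Agent.Lib.QBaer
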